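import Cfsg.Agent.H53.U34.Defs
import Cfsg.Agent.H53.U34.Check.Cert
import Mathlib.RingTheory.RootsOfUnity.Complex
import Mathlib.Analysis.Complex.Basic

/-!
# The column data for `n = 5` from the character values

The values of the characters on `a q^l` are turned into multiplicities by orthogonality of the powers
of a fifth root of unity, and these satisfy the equations of `Rows`.
-/

set_option autoImplicit false

namespace Cfsg.Agent.H60.U34

open Finset
open scoped ComplexConjugate

/-- Orthogonality of the powers of a primitive fifth root of unity. -/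
theorem geom_five {η : ℂ} (hη : IsPrimitiveRoot η 5) (m : ℕ) :
    ∑ l : Fin 5, η ^ (m * (l : ℕ)) = if 5 ∣ m then 5 else 0 := by
  rw [Fin.sum_univ_eq_sum_range (fun l => η ^ (m * l)) 5]
  simp_rw [pow_mul]
  split_ifs with h
  · obtain ⟨j, rfl⟩ := h
    rw [pow_mul, hη.pow_eq_one, one_pow]
    simp
  · exact (hη.pow_of_coprime m ((Nat.Prime.coprime_iff_not_dvd (by norm_num)).mpr h).symm).geom_sum_eq_zero
      (by norm_num)

theorem conj_five {η : ℂ} (hη : IsPrimitiveRoot η 5) : conj η = η ^ 4 := by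
  rw [← Complex.inv_eq_conj (hη.norm'_eq_one (by norm_num))]
  refine inv_eq_of_mul_eq_one_right ?_
  rw [← pow_succ']
  exact hη.pow_eq_one

/-- A linear equation for the values gives one for the multiplicities. -/
theorem five_mul_sum {X : Type*} [Fintype X] {η : ℂ} (α : X → Fin 5 → ℂ) (D : X → Fin 5 → ℤ)
    (hD : ∀ x k, 5 * (D x k : ℂ) = ∑ l : Fin 5, α x l * η ^ ((k : ℕ) * (l : ℕ)))
    (f : X → ℂ) (g : Fin 5 → ℂ) (hg : ∀ l, ∑ x, f x * α x l = g l) (k : Fin 5) :
    5 * ∑ x, f x * (D x k : ℂ) = ∑ l : Fin 5, g l * η ^ ((k : ℕ) * (l : ℕ)) := by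
  rw [mul_sum]
  simp_rw [mul_left_comm (5 : ℂ), hD, mul_sum]
  rw [sum_comm]
  refine sum_congr rfl fun l _ => ?_
  rw [← hg l, sum_mul]
  exact sum_congr rfl fun x _ => by ring

theorem fin_five_dvd (k l : Fin 5) : 5 ∣ (k : ℕ) + 4 * (l : ℕ) ↔ k = l := by
  revert k l; decide

theorem fin_five_dvd_one (k : Fin 5) : 5 ∣ (k : ℕ) ↔ k = 0 := by
  revert k; decide

/-- **The case `n = 5`.** -/
theorem false_of_five {X : Type*} [Fintype X] (ζ : ℂ) (hζ : IsPrimitiveRoot ζ 5)
    (α : X → Fin 5 → ℂ) (A C d N : X → ℤ) (D : X → Fin 5 → ℤ) (gal : Equiv.Perm X)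
    (hα0 : ∀ x, α x 0 = A x)
    (hD : ∀ x k, 5 * (D x k : ℂ) = ∑ l : Fin 5, α x l * ζ⁻¹ ^ ((k : ℕ) * (l : ℕ)))
    (hαα : ∀ i j, ∑ x, α x i * conj (α x j) =
      (if i = j then (if i = 0 then 320 else 20) else 0) - 1)
    (hαC : ∀ i, ∑ x, α x i * (C x : ℂ) = -1) (hCC : ∑ x, C x * C x = 15)
    (hdα : ∀ i, ∑ x, (d x : ℂ) * α x i = -1) (hdC : ∑ x, d x * C x = -1)
    (hpα : ∀ i, i ≠ 0 → ∑ x, (A x : ℂ) ^ 2 * α x i / (d x : ℂ) = -1)
    (hpC : ∑ x, (A x : ℂ) ^ 2 * (C x : ℂ) / (d x : ℂ) = -1)
    (hN : ∀ x, 64 * N x = d x + 3 * A x + 60 * C x) (hN1 : ∀ x, 1 ≤ N x)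
    (h16 : ∀ x, 16 ∣ d x - A x) (hd : ∀ x, 64 + |A x| ≤ d x)
    (hgalD : ∀ x k, D (gal x) k = D x (2 * k)) (hgalA : ∀ x, A (gal x) = A x)
    (hgalC : ∀ x, C (gal x) = C x) (hgald : ∀ x, d (gal x) = d x) : False := by
  classical
  set η := ζ⁻¹ with hηdef
  have hη : IsPrimitiveRoot η 5 := hζ.inv
  have hgeo1 : ∀ k : Fin 5, ∑ l : Fin 5, η ^ ((k : ℕ) * (l : ℕ)) = if k = 0 then 5 else 0 :=
    fun k => by simp only [geom_five hη, fin_five_dvd_one]
  have castC : ∀ {a : ℤ} {b : ℤ}, (a : ℂ) = (b : ℂ) → a = b := fun h => Int.cast_inj.mp h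
  -- sums against the multiplicities
  have hDC : ∀ k, ∑ x, C x * D x k = if k = 0 then -1 else 0 := by
    intro k
    have h := five_mul_sum α D hD (fun x => (C x : ℂ)) (fun _ => -1)
      (fun l => by rw [← hαC l]; exact sum_congr rfl fun x _ => mul_comm _ _) k
    rw [← mul_sum, hgeo1] at h
    refine castC ?_
    push_cast
    refine mul_left_cancel₀ (show (5 : ℂ) ≠ 0 by norm_num) (h.trans ?_)
    split_ifs <;> norm_num
  have hDd : ∀ k, ∑ x, d x * D x k = if k = 0 then -1 else 0 := by
    intro k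
    have h := five_mul_sum α D hD (fun x => (d x : ℂ)) (fun _ => -1) hdα k
    rw [← mul_sum, hgeo1] at h
    refine castC ?_
    push_cast
    refine mul_left_cancel₀ (show (5 : ℂ) ≠ 0 by norm_num) (h.trans ?_)
    split_ifs <;> norm_num
  have hgA : ∀ l, ∑ x, (A x : ℂ) * α x l = (if l = 0 then 320 else 0) - 1 := by
    intro l
    have h := hαα l 0
    rw [show (if l = 0 then (if l = 0 then (320 : ℂ) else 20) else 0) = if l = 0 then 320 else 0 by
      split_ifs <;> rfl] at h
    rw [← h]
    refine sum_congr rfl fun x _ => ?_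
    rw [hα0, map_intCast, mul_comm]
  have hDA : ∀ k, ∑ x, A x * D x k = 64 - if k = 0 then 1 else 0 := by
    intro k
    have h := five_mul_sum α D hD (fun x => (A x : ℂ)) _ hgA k
    simp only [sub_mul, ite_mul, zero_mul, one_mul, sum_sub_distrib, sum_ite_eq', mem_univ, if_true,
      Fin.val_zero, mul_zero, pow_zero, mul_one, hgeo1] at h
    refine castC ?_
    push_cast
    refine mul_left_cancel₀ (show (5 : ℂ) ≠ 0 by norm_num) (h.trans ?_)
    split_ifs <;> norm_num
  have hAA : ∑ x, A x * A x = 319 := by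
    have h := hgA 0
    refine castC ?_
    push_cast
    simp only [hα0, if_pos] at h
    rw [h]
    norm_num
  have hAC : ∑ x, A x * C x = -1 := by
    have h := hαC 0
    simp only [hα0] at h
    exact castC (by push_cast; exact h)
  have hAd : ∑ x, d x * A x = -1 := by
    have h := hdα 0
    simp only [hα0] at h
    exact castC (by push_cast; exact h)
  have hDD : ∀ k l, ∑ x, D x k * D x l =
      (if k = l then 16 else 12) - if k = 0 ∧ l = 0 then 1 else 0 := by
    intro k l
    have hconj : ∀ x, ∑ j : Fin 5, conj (α x j) * η ^ (4 * ((l : ℕ) * (j : ℕ))) = 5 * (D x l : ℂ) := by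
      intro x
      have h := congrArg conj (hD x l)
      rw [map_mul, map_intCast, map_ofNat, map_sum] at h
      rw [h]
      refine sum_congr rfl fun j _ => ?_
      rw [map_mul, map_pow, conj_five hη, ← pow_mul]
    have h : (25 : ℂ) * ∑ x, (D x k : ℂ) * (D x l : ℂ) =
        ∑ i : Fin 5, ∑ j : Fin 5, η ^ ((k : ℕ) * (i : ℕ)) * η ^ (4 * ((l : ℕ) * (j : ℕ))) *
          ((if i = j then (if i = 0 then 320 else 20) else 0) - 1) := by
      calc (25 : ℂ) * ∑ x, (D x k : ℂ) * (D x l : ℂ)
          = ∑ x, (5 * (D x k : ℂ)) * (5 * (D x l : ℂ)) := by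
            rw [mul_sum]; exact sum_congr rfl fun x _ => by ring
        _ = ∑ x, ∑ i : Fin 5, ∑ j : Fin 5, (η ^ ((k : ℕ) * (i : ℕ)) *
              η ^ (4 * ((l : ℕ) * (j : ℕ)))) * (α x i * conj (α x j)) := by
            refine sum_congr rfl fun x _ => ?_
            rw [hD, ← hconj, sum_mul_sum]
            exact sum_congr rfl fun i _ => sum_congr rfl fun j _ => by ring
        _ = _ := by
            rw [sum_comm]
            refine sum_congr rfl fun i _ => ?_
            rw [sum_comm]
            refine sum_congr rfl fun j _ => ?_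
            rw [← mul_sum, hαα]
    have h1 : ∀ i : Fin 5, η ^ ((k : ℕ) * (i : ℕ)) * η ^ (4 * ((l : ℕ) * (i : ℕ))) =
        η ^ (((k : ℕ) + 4 * (l : ℕ)) * (i : ℕ)) := fun i => by rw [← pow_add]; ring_nf
    simp only [mul_sub, mul_ite, mul_zero, mul_one, sum_sub_distrib, sum_ite_eq, mem_univ,
      if_true] at h
    have h2 : ∑ i : Fin 5, (if i = 0 then η ^ ((k : ℕ) * (i : ℕ)) * η ^ (4 * ((l : ℕ) * (i : ℕ))) * 320
        else η ^ ((k : ℕ) * (i : ℕ)) * η ^ (4 * ((l : ℕ) * (i : ℕ))) * 20) =
        (if k = l then 100 else 0) + 300 := by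
      have h3 : ∀ i : Fin 5,
          (if i = 0 then η ^ ((k : ℕ) * (i : ℕ)) * η ^ (4 * ((l : ℕ) * (i : ℕ))) * 320
            else η ^ ((k : ℕ) * (i : ℕ)) * η ^ (4 * ((l : ℕ) * (i : ℕ))) * 20) =
          20 * η ^ (((k : ℕ) + 4 * (l : ℕ)) * (i : ℕ)) + if i = 0 then 300 else 0 := by
        intro i
        rw [h1]
        split_ifs with hi
        · subst hi; simp; norm_num
        · ring
      rw [sum_congr rfl fun i _ => h3 i, sum_add_distrib, ← mul_sum, geom_five hη, sum_ite_eq']
      simp only [fin_five_dvd, mem_univ, if_true]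
      split_ifs <;> norm_num
    have h4 : ∑ i : Fin 5, ∑ j : Fin 5, η ^ ((k : ℕ) * (i : ℕ)) * η ^ (4 * ((l : ℕ) * (j : ℕ))) =
        (if k = 0 ∧ l = 0 then 25 else 0 : ℂ) := by
      have h5 : ∀ j : Fin 5, η ^ (4 * ((l : ℕ) * (j : ℕ))) = η ^ (4 * (l : ℕ) * (j : ℕ)) :=
        fun j => by rw [mul_assoc]
      have h6 : ∀ l : Fin 5, 5 ∣ 4 * (l : ℕ) ↔ l = 0 := by decide
      rw [← sum_mul_sum, hgeo1, sum_congr rfl fun j _ => h5 j, geom_five hη]
      simp only [h6]
      by_cases hk : k = 0 <;> by_cases hl : l = 0 <;> simp [hk, hl]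
      norm_num
    rw [h2, h4] at h
    refine castC ?_
    push_cast
    refine mul_left_cancel₀ (show (25 : ℂ) ≠ 0 by norm_num) (h.trans ?_)
    split_ifs <;> norm_num
  -- the shift
  have h4 : ∀ x, ∃ e : ℤ, 4 * e = C x - A x := fun x => by
    obtain ⟨m, hm⟩ := h16 x
    exact ⟨4 * C x - 4 * N x + m, by linarith [hN x]⟩
  choose e he using h4
  have hsumD : ∀ x, ∑ k, D x k = A x := by
    intro x
    refine castC ?_
    push_cast
    refine mul_left_cancel₀ (show (5 : ℂ) ≠ 0 by norm_num) ?_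
    rw [mul_sum, sum_congr rfl fun k _ => hD x k, sum_comm, sum_eq_single (0 : Fin 5)]
    · simp [hα0]
    · intro l _ hl
      have h1 : ∑ k : Fin 5, η ^ ((k : ℕ) * (l : ℕ)) = 0 := by
        have h2 := hgeo1 l
        rw [if_neg hl] at h2
        exact (sum_congr rfl fun k _ => by rw [mul_comm]).trans h2
      rw [← mul_sum, h1, mul_zero]
    · simp
  have hA : ∀ x, 4 * (∑ k, (D x k + e x)) + 5 * (-C x) = -A x := by
    intro x
    rw [sum_add_distrib, hsumD, sum_const, card_univ, Fintype.card_fin, nsmul_eq_mul]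
    push_cast
    linarith [he x]
  have hden : ∀ x, 64 * (N x - C x) + 3 * (-A x) - 4 * (-C x) = d x := fun x => by linarith [hN x]
  -- sums against the shift
  have heD : ∀ k, ∑ x, e x * D x k = -16 := by
    intro k
    have h : 4 * ∑ x, e x * D x k = ∑ x, C x * D x k - ∑ x, A x * D x k := by
      rw [mul_sum, ← sum_sub_distrib]
      exact sum_congr rfl fun x _ => by rw [← mul_assoc, he, sub_mul]
    rw [hDC, hDA] at h
    split_ifs at h <;> linarith
  have heC : ∑ x, e x * C x = 4 := by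
    have h : 4 * ∑ x, e x * C x = ∑ x, C x * C x - ∑ x, A x * C x := by
      rw [mul_sum, ← sum_sub_distrib]
      exact sum_congr rfl fun x _ => by rw [← mul_assoc, he, sub_mul]
    rw [hCC, hAC] at h
    linarith
  have hee : ∑ x, e x * e x = 21 := by
    have h : 16 * ∑ x, e x * e x = ∑ x, C x * C x - 2 * ∑ x, A x * C x + ∑ x, A x * A x := by
      rw [mul_sum, mul_sum, ← sum_sub_distrib, ← sum_add_distrib]
      refine sum_congr rfl fun x _ => ?_
      linear_combination (4 * e x + C x - A x) * he x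
    rw [hCC, hAC, hAA] at h
    linarith
  -- sums against the degree coordinate
  have hNf : ∀ (f : X → ℤ), 64 * ∑ x, f x * (N x - C x) =
      ∑ x, d x * f x + 3 * ∑ x, A x * f x - 4 * ∑ x, C x * f x := by
    intro f
    rw [mul_sum, mul_sum, mul_sum, ← sum_add_distrib, ← sum_sub_distrib]
    exact sum_congr rfl fun x _ => by linear_combination f x * hN x
  have hDE : ∀ k, ∑ x, D x k * (N x - C x) = 3 := by
    intro k
    have h := hNf fun x => D x k
    rw [hDd, hDA, hDC] at h
    split_ifs at h <;> linarith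
  have hCE : ∑ x, C x * (N x - C x) = -1 := by
    have h := hNf C
    rw [hdC, hAC, hCC] at h
    linarith
  have heE : ∑ x, e x * (N x - C x) = -4 := by
    have h := hNf A
    rw [hAd, hAA, sum_congr rfl (fun x _ => mul_comm (C x) (A x)), hAC] at h
    have h' : 4 * ∑ x, e x * (N x - C x) = ∑ x, C x * (N x - C x) - ∑ x, A x * (N x - C x) := by
      rw [mul_sum, ← sum_sub_distrib]
      exact sum_congr rfl fun x _ => by rw [← mul_assoc, he, sub_mul]
    rw [hCE] at h'
    linarith
  refine H53.U34.Rows.false (X := X)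
    { c := fun x k => D x k + e x
      v := fun x => -C x
      E := fun x => N x - C x
      gal := gal
      gal_c := fun x k => ?_
      gal_v := fun x => by rw [hgalC]
      gal_E := fun x => ?_
      gram_cc := fun k l => ?_
      gram_cv := fun k => ?_
      gram_vv := by simp only [neg_mul_neg]; exact hCC
      lt_sub_v := fun x => by linarith [hN1 x]
      psi_nonneg := fun x => ?_
      deg_pos := fun x => ?_
      linear_c := fun k => ?_
      linear_v := ?_
      pairs_v := ?_
      pairs_c := ?_ }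
  · rw [hgalD]
    have h1 := he (gal x)
    rw [hgalC, hgalA, ← he x] at h1
    linarith
  · have h1 := hN (gal x)
    rw [hgald, hgalA, hgalC, ← hN x] at h1
    rw [hgalC]
    linarith
  · calc ∑ x, (D x k + e x) * (D x l + e x)
        = ∑ x, D x k * D x l + ∑ x, e x * D x k + ∑ x, e x * D x l + ∑ x, e x * e x := by
          rw [← sum_add_distrib, ← sum_add_distrib, ← sum_add_distrib]
          exact sum_congr rfl fun x _ => by ring
      _ = _ := by rw [hDD, heD, heD, hee]; split_ifs <;> norm_num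
  · calc ∑ x, (D x k + e x) * -C x = -(∑ x, C x * D x k + ∑ x, e x * C x) := by
          rw [← sum_add_distrib, ← sum_neg_distrib]
          exact sum_congr rfl fun x _ => by ring
      _ = _ := by rw [hDC, heC]; split_ifs <;> norm_num
  · linarith [hA x, he x, hN x, hd x, le_abs_self (A x)]
  · linarith [hA x, hden x, hd x, abs_nonneg (A x)]
  · calc ∑ x, (D x k + e x) * (N x - C x) = ∑ x, D x k * (N x - C x) + ∑ x, e x * (N x - C x) := by
          rw [← sum_add_distrib]
          exact sum_congr rfl fun x _ => by ring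
      _ = -1 := by rw [hDE, heE]; norm_num
  · simp only [neg_mul, sum_neg_distrib, hCE]; norm_num
  · refine Rat.cast_injective (α := ℂ) ?_
    rw [Rat.cast_sum, Rat.cast_one]
    simp only [hA, hden, Rat.cast_div, Rat.cast_intCast]
    rw [← neg_neg (1 : ℂ), ← hpC, ← sum_neg_distrib]
    refine sum_congr rfl fun x _ => ?_
    push_cast
    ring
  · refine Rat.cast_injective (α := ℂ) ?_
    rw [Rat.cast_sum]
    simp only [hA, hden, Rat.cast_div, Rat.cast_intCast]
    refine mul_left_cancel₀ (show (5 : ℂ) ≠ 0 by norm_num) ?_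
    calc (5 : ℂ) * ∑ x, (((D x 0 + e x - (D x 1 + e x)) * (-A x) ^ 2 : ℤ) : ℂ) / (d x : ℂ)
        = ∑ x, (A x : ℂ) ^ 2 / (d x : ℂ) * (5 * (D x 0 : ℂ) - 5 * (D x 1 : ℂ)) := by
          rw [mul_sum]
          exact sum_congr rfl fun x _ => by push_cast; ring
      _ = ∑ l : Fin 5, (1 - η ^ (l : ℕ)) * ∑ x, (A x : ℂ) ^ 2 * α x l / (d x : ℂ) := by
          simp only [hD, Fin.val_zero, zero_mul, pow_zero, mul_one, Fin.val_one, one_mul,
            ← sum_sub_distrib, mul_sum]
          rw [sum_comm]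
          exact sum_congr rfl fun l _ => sum_congr rfl fun x _ => by ring
      _ = ∑ l : Fin 5, (1 - η ^ (l : ℕ)) * -1 := by
          refine sum_congr rfl fun l _ => ?_
          rcases eq_or_ne l 0 with rfl | hl
          · simp
          · rw [hpα l hl]
      _ = _ := by
          have h1 := hgeo1 1
          rw [if_neg (by decide), Fin.val_one] at h1
          simp only [one_mul] at h1
          rw [← sum_mul, sum_sub_distrib, h1]
          simp

end Cfsg.Agent.H60.U34
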