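import Mathlib.Algebra.BigOperators.Group.Finset.Basic
import Mathlib.Algebra.Order.BigOperators.Group.Finset
import Mathlib.Algebra.BigOperators.Field
import Mathlib.Data.Real.Basic
import Mathlib.Tactic.Linarith

/-!
# The case `n = 1` of the character equations for `U₃(4)` type Sylow 2-subgroups

With `A` the value at the involution `a`, `C` the mean value on the elements of order four over `a` and
`d` the degree, over the non-trivial characters: `C * A² / d ≥ -A² / 70` for each of them, so the sum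
is at least `-63 / 70`.
-/

set_option autoImplicit false

namespace Cfsg.Agent.H60.U34

open Finset

/-- The end of the case `n = 1`. -/
theorem false_of_one {ι : Type*} (s : Finset ι) (A C d : ι → ℝ)
    (hA : ∑ x ∈ s, A x ^ 2 = 63) (hC : ∑ x ∈ s, C x ^ 2 = 11 / 5)
    (hrel : ∑ x ∈ s, C x * A x ^ 2 / d x = -1)
    (hd : ∀ x ∈ s, 64 + |A x| ≤ d x ∧ 64 - 3 * A x - 60 * C x ≤ d x) : False := by
  have hA1 : ∀ x ∈ s, A x ^ 2 ≤ 63 := fun x hx =>
    hA ▸ single_le_sum (fun y _ => sq_nonneg (A y)) hx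
  have hC1 : ∀ x ∈ s, C x ^ 2 ≤ 11 / 5 := fun x hx =>
    hC ▸ single_le_sum (fun y _ => sq_nonneg (C y)) hx
  have key : ∀ x ∈ s, -(A x ^ 2) / 70 ≤ C x * A x ^ 2 / d x := by
    intro x hx
    obtain ⟨h1, h2⟩ := hd x hx
    have hpos : 0 < d x := by linarith [abs_nonneg (A x)]
    have hA8 : A x ≤ 8 := by nlinarith [hA1 x hx]
    have hC2 : -(3 / 2) ≤ C x := by nlinarith [hC1 x hx]
    rw [le_div_iff₀ hpos]
    nlinarith [mul_nonneg (sq_nonneg (A x)) (show 0 ≤ d x + 70 * C x by linarith)]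
  have h := sum_le_sum key
  rw [hrel, ← sum_div, sum_neg_distrib, hA] at h
  linarith

/-- The same with the degree bound through an auxiliary `f`, over a finite type. -/
theorem false_of_one_fintype {ι : Type*} [Fintype ι] (A C d f : ι → ℝ)
    (hA : ∑ x, A x ^ 2 = 63) (hC : ∑ x, C x ^ 2 = 11 / 5)
    (hrel : ∑ x, C x * A x ^ 2 / d x = -1)
    (hd : ∀ x, 64 + f x ≤ d x) (hf : ∀ x, |A x| ≤ f x) (hf' : ∀ x, -3 * A x - 60 * C x ≤ f x) :
    False :=
  false_of_one univ A C d hA hC hrel fun x _ =>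
    ⟨by linarith [hd x, hf x], by linarith [hd x, hf' x]⟩

end Cfsg.Agent.H60.U34
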